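import Mathlib
import Cfsg.Agent.Lib.LyV111.Data

set_option autoImplicit false
set_option maxRecDepth 100000
set_option linter.all false
set_option Elab.async false

namespace Cfsg.Agent.Lib.LyV111

open Cfsg.Spor.Ly Cfsg.Agent.Lib.FpVec

theorem w55_c0 : ∀ i, i < 16 → Fx W55 (i + 0) := by decide +kernel

theorem w55_c16 : ∀ i, i < 16 → Fx W55 (i + 16) := by decide +kernel

theorem w55_c32 : ∀ i, i < 16 → Fx W55 (i + 32) := by decide +kernel

theorem w55_c48 : ∀ i, i < 16 → Fx W55 (i + 48) := by decide +kernel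

theorem w55_c64 : ∀ i, i < 16 → Fx W55 (i + 64) := by decide +kernel

theorem w55_c80 : ∀ i, i < 16 → Fx W55 (i + 80) := by decide +kernel

theorem w55_c96 : ∀ i, i < 15 → Fx W55 (i + 96) := by decide +kernel

theorem ok55_0 : ∀ i, i < 0 → Fx W55 i := fun _ h => absurd h (Nat.not_lt_zero _)

theorem ok55_16 : ∀ i, i < 0 + 16 → Fx W55 i := glue ok55_0 w55_c0

theorem ok55_32 : ∀ i, i < 16 + 16 → Fx W55 i := glue ok55_16 w55_c16

theorem ok55_48 : ∀ i, i < 32 + 16 → Fx W55 i := glue ok55_32 w55_c32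

theorem ok55_64 : ∀ i, i < 48 + 16 → Fx W55 i := glue ok55_48 w55_c48

theorem ok55_80 : ∀ i, i < 64 + 16 → Fx W55 i := glue ok55_64 w55_c64

theorem ok55_96 : ∀ i, i < 80 + 16 → Fx W55 i := glue ok55_80 w55_c80

theorem ok55_111 : ∀ i, i < 96 + 15 → Fx W55 i := glue ok55_96 w55_c96

theorem ok55 : ∀ i, i < 111 → Fx W55 i := ok55_111


end Cfsg.Agent.Lib.LyV111
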