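import Mathlib
import Cfsg.Agent.Lib.LyV111.Data

set_option autoImplicit false
set_option maxRecDepth 100000
set_option linter.all false
set_option Elab.async false

namespace Cfsg.Agent.Lib.LyV111

open Cfsg.Spor.Ly Cfsg.Agent.Lib.FpVec

theorem w53_c0 : ∀ i, i < 28 → Fx W53 (i + 0) := by decide +kernel

theorem w53_c28 : ∀ i, i < 28 → Fx W53 (i + 28) := by decide +kernel

theorem w53_c56 : ∀ i, i < 28 → Fx W53 (i + 56) := by decide +kernel

theorem w53_c84 : ∀ i, i < 27 → Fx W53 (i + 84) := by decide +kernel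

theorem ok53_0 : ∀ i, i < 0 → Fx W53 i := fun _ h => absurd h (Nat.not_lt_zero _)

theorem ok53_28 : ∀ i, i < 0 + 28 → Fx W53 i := glue ok53_0 w53_c0

theorem ok53_56 : ∀ i, i < 28 + 28 → Fx W53 i := glue ok53_28 w53_c28

theorem ok53_84 : ∀ i, i < 56 + 28 → Fx W53 i := glue ok53_56 w53_c56

theorem ok53_111 : ∀ i, i < 84 + 27 → Fx W53 i := glue ok53_84 w53_c84

theorem ok53 : ∀ i, i < 111 → Fx W53 i := ok53_111

theorem w2_c0 : ∀ i, i < 111 → Fx W2 (i + 0) := by decide +kernel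

theorem ok2_0 : ∀ i, i < 0 → Fx W2 i := fun _ h => absurd h (Nat.not_lt_zero _)

theorem ok2_111 : ∀ i, i < 0 + 111 → Fx W2 i := glue ok2_0 w2_c0

theorem ok2 : ∀ i, i < 111 → Fx W2 i := ok2_111

theorem w32_c0 : ∀ i, i < 111 → Fx W32 (i + 0) := by decide +kernel

theorem ok32_0 : ∀ i, i < 0 → Fx W32 i := fun _ h => absurd h (Nat.not_lt_zero _)

theorem ok32_111 : ∀ i, i < 0 + 111 → Fx W32 i := glue ok32_0 w32_c0

theorem ok32 : ∀ i, i < 111 → Fx W32 i := ok32_111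

theorem w48_c0 : ∀ i, i < 111 → Fx W48 (i + 0) := by decide +kernel

theorem ok48_0 : ∀ i, i < 0 → Fx W48 i := fun _ h => absurd h (Nat.not_lt_zero _)

theorem ok48_111 : ∀ i, i < 0 + 111 → Fx W48 i := glue ok48_0 w48_c0

theorem ok48 : ∀ i, i < 111 → Fx W48 i := ok48_111

theorem w5_c0 : ∀ i, i < 111 → Fx W5 (i + 0) := by decide +kernel

theorem ok5_0 : ∀ i, i < 0 → Fx W5 i := fun _ h => absurd h (Nat.not_lt_zero _)

theorem ok5_111 : ∀ i, i < 0 + 111 → Fx W5 i := glue ok5_0 w5_c0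

theorem ok5 : ∀ i, i < 111 → Fx W5 i := ok5_111

theorem w13_c0 : ∀ i, i < 111 → Fx W13 (i + 0) := by decide +kernel

theorem ok13_0 : ∀ i, i < 0 → Fx W13 i := fun _ h => absurd h (Nat.not_lt_zero _)

theorem ok13_111 : ∀ i, i < 0 + 111 → Fx W13 i := glue ok13_0 w13_c0

theorem ok13 : ∀ i, i < 111 → Fx W13 i := ok13_111


end Cfsg.Agent.Lib.LyV111
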