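import Mathlib
import Cfsg.Agent.Lib.LyV111.Data

set_option autoImplicit false
set_option maxRecDepth 100000
set_option linter.all false
set_option Elab.async false

namespace Cfsg.Agent.Lib.LyV111

open Cfsg.Spor.Ly Cfsg.Agent.Lib.FpVec

theorem w54_c0 : ∀ i, i < 30 → Fx W54 (i + 0) := by decide +kernel

theorem w54_c30 : ∀ i, i < 30 → Fx W54 (i + 30) := by decide +kernel

theorem w54_c60 : ∀ i, i < 30 → Fx W54 (i + 60) := by decide +kernel

theorem w54_c90 : ∀ i, i < 21 → Fx W54 (i + 90) := by decide +kernel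

theorem ok54_0 : ∀ i, i < 0 → Fx W54 i := fun _ h => absurd h (Nat.not_lt_zero _)

theorem ok54_30 : ∀ i, i < 0 + 30 → Fx W54 i := glue ok54_0 w54_c0

theorem ok54_60 : ∀ i, i < 30 + 30 → Fx W54 i := glue ok54_30 w54_c30

theorem ok54_90 : ∀ i, i < 60 + 30 → Fx W54 i := glue ok54_60 w54_c60

theorem ok54_111 : ∀ i, i < 90 + 21 → Fx W54 i := glue ok54_90 w54_c90

theorem ok54 : ∀ i, i < 111 → Fx W54 i := ok54_111

theorem w0_c0 : ∀ i, i < 111 → Fx W0 (i + 0) := by decide +kernel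

theorem ok0_0 : ∀ i, i < 0 → Fx W0 i := fun _ h => absurd h (Nat.not_lt_zero _)

theorem ok0_111 : ∀ i, i < 0 + 111 → Fx W0 i := glue ok0_0 w0_c0

theorem ok0 : ∀ i, i < 111 → Fx W0 i := ok0_111

theorem w31_c0 : ∀ i, i < 111 → Fx W31 (i + 0) := by decide +kernel

theorem ok31_0 : ∀ i, i < 0 → Fx W31 i := fun _ h => absurd h (Nat.not_lt_zero _)

theorem ok31_111 : ∀ i, i < 0 + 111 → Fx W31 i := glue ok31_0 w31_c0

theorem ok31 : ∀ i, i < 111 → Fx W31 i := ok31_111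

theorem w40_c0 : ∀ i, i < 111 → Fx W40 (i + 0) := by decide +kernel

theorem ok40_0 : ∀ i, i < 0 → Fx W40 i := fun _ h => absurd h (Nat.not_lt_zero _)

theorem ok40_111 : ∀ i, i < 0 + 111 → Fx W40 i := glue ok40_0 w40_c0

theorem ok40 : ∀ i, i < 111 → Fx W40 i := ok40_111

theorem w19_c0 : ∀ i, i < 111 → Fx W19 (i + 0) := by decide +kernel

theorem ok19_0 : ∀ i, i < 0 → Fx W19 i := fun _ h => absurd h (Nat.not_lt_zero _)

theorem ok19_111 : ∀ i, i < 0 + 111 → Fx W19 i := glue ok19_0 w19_c0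

theorem ok19 : ∀ i, i < 111 → Fx W19 i := ok19_111

theorem w12_c0 : ∀ i, i < 111 → Fx W12 (i + 0) := by decide +kernel

theorem ok12_0 : ∀ i, i < 0 → Fx W12 i := fun _ h => absurd h (Nat.not_lt_zero _)

theorem ok12_111 : ∀ i, i < 0 + 111 → Fx W12 i := glue ok12_0 w12_c0

theorem ok12 : ∀ i, i < 111 → Fx W12 i := ok12_111

theorem w28_c0 : ∀ i, i < 111 → Fx W28 (i + 0) := by decide +kernel

theorem ok28_0 : ∀ i, i < 0 → Fx W28 i := fun _ h => absurd h (Nat.not_lt_zero _)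

theorem ok28_111 : ∀ i, i < 0 + 111 → Fx W28 i := glue ok28_0 w28_c0

theorem ok28 : ∀ i, i < 111 → Fx W28 i := ok28_111


end Cfsg.Agent.Lib.LyV111
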