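import Mathlib
import Cfsg.Agent.Lib.LyV111.Data

set_option autoImplicit false
set_option maxRecDepth 100000
set_option linter.all false
set_option Elab.async false

namespace Cfsg.Agent.Lib.LyV111

open Cfsg.Spor.Ly Cfsg.Agent.Lib.FpVec

theorem w56_c0 : ∀ i, i < 32 → Fx W56 (i + 0) := by decide +kernel

theorem w56_c32 : ∀ i, i < 32 → Fx W56 (i + 32) := by decide +kernel

theorem w56_c64 : ∀ i, i < 32 → Fx W56 (i + 64) := by decide +kernel

theorem w56_c96 : ∀ i, i < 15 → Fx W56 (i + 96) := by decide +kernel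

theorem ok56_0 : ∀ i, i < 0 → Fx W56 i := fun _ h => absurd h (Nat.not_lt_zero _)

theorem ok56_32 : ∀ i, i < 0 + 32 → Fx W56 i := glue ok56_0 w56_c0

theorem ok56_64 : ∀ i, i < 32 + 32 → Fx W56 i := glue ok56_32 w56_c32

theorem ok56_96 : ∀ i, i < 64 + 32 → Fx W56 i := glue ok56_64 w56_c64

theorem ok56_111 : ∀ i, i < 96 + 15 → Fx W56 i := glue ok56_96 w56_c96

theorem ok56 : ∀ i, i < 111 → Fx W56 i := ok56_111

theorem w49_c0 : ∀ i, i < 111 → Fx W49 (i + 0) := by decide +kernel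

theorem ok49_0 : ∀ i, i < 0 → Fx W49 i := fun _ h => absurd h (Nat.not_lt_zero _)

theorem ok49_111 : ∀ i, i < 0 + 111 → Fx W49 i := glue ok49_0 w49_c0

theorem ok49 : ∀ i, i < 111 → Fx W49 i := ok49_111

theorem w29_c0 : ∀ i, i < 111 → Fx W29 (i + 0) := by decide +kernel

theorem ok29_0 : ∀ i, i < 0 → Fx W29 i := fun _ h => absurd h (Nat.not_lt_zero _)

theorem ok29_111 : ∀ i, i < 0 + 111 → Fx W29 i := glue ok29_0 w29_c0

theorem ok29 : ∀ i, i < 111 → Fx W29 i := ok29_111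

theorem w15_c0 : ∀ i, i < 111 → Fx W15 (i + 0) := by decide +kernel

theorem ok15_0 : ∀ i, i < 0 → Fx W15 i := fun _ h => absurd h (Nat.not_lt_zero _)

theorem ok15_111 : ∀ i, i < 0 + 111 → Fx W15 i := glue ok15_0 w15_c0

theorem ok15 : ∀ i, i < 111 → Fx W15 i := ok15_111

theorem w9_c0 : ∀ i, i < 111 → Fx W9 (i + 0) := by decide +kernel

theorem ok9_0 : ∀ i, i < 0 → Fx W9 i := fun _ h => absurd h (Nat.not_lt_zero _)

theorem ok9_111 : ∀ i, i < 0 + 111 → Fx W9 i := glue ok9_0 w9_c0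

theorem ok9 : ∀ i, i < 111 → Fx W9 i := ok9_111

theorem w6_c0 : ∀ i, i < 111 → Fx W6 (i + 0) := by decide +kernel

theorem ok6_0 : ∀ i, i < 0 → Fx W6 i := fun _ h => absurd h (Nat.not_lt_zero _)

theorem ok6_111 : ∀ i, i < 0 + 111 → Fx W6 i := glue ok6_0 w6_c0

theorem ok6 : ∀ i, i < 111 → Fx W6 i := ok6_111

theorem w14_c0 : ∀ i, i < 111 → Fx W14 (i + 0) := by decide +kernel

theorem ok14_0 : ∀ i, i < 0 → Fx W14 i := fun _ h => absurd h (Nat.not_lt_zero _)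

theorem ok14_111 : ∀ i, i < 0 + 111 → Fx W14 i := glue ok14_0 w14_c0

theorem ok14 : ∀ i, i < 111 → Fx W14 i := ok14_111


end Cfsg.Agent.Lib.LyV111
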