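import Mathlib
import Cfsg.Agent.Lib.LyV111.Data

set_option autoImplicit false
set_option maxRecDepth 100000
set_option linter.all false
set_option Elab.async false

namespace Cfsg.Agent.Lib.LyV111

open Cfsg.Spor.Ly Cfsg.Agent.Lib.FpVec

theorem w52_c0 : ∀ i, i < 70 → Fx W52 (i + 0) := by decide +kernel

theorem w52_c70 : ∀ i, i < 41 → Fx W52 (i + 70) := by decide +kernel

theorem ok52_0 : ∀ i, i < 0 → Fx W52 i := fun _ h => absurd h (Nat.not_lt_zero _)

theorem ok52_70 : ∀ i, i < 0 + 70 → Fx W52 i := glue ok52_0 w52_c0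

theorem ok52_111 : ∀ i, i < 70 + 41 → Fx W52 i := glue ok52_70 w52_c70

theorem ok52 : ∀ i, i < 111 → Fx W52 i := ok52_111

theorem w43_c0 : ∀ i, i < 107 → Fx W43 (i + 0) := by decide +kernel

theorem w43_c107 : ∀ i, i < 4 → Fx W43 (i + 107) := by decide +kernel

theorem ok43_0 : ∀ i, i < 0 → Fx W43 i := fun _ h => absurd h (Nat.not_lt_zero _)

theorem ok43_107 : ∀ i, i < 0 + 107 → Fx W43 i := glue ok43_0 w43_c0

theorem ok43_111 : ∀ i, i < 107 + 4 → Fx W43 i := glue ok43_107 w43_c107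

theorem ok43 : ∀ i, i < 111 → Fx W43 i := ok43_111

theorem w30_c0 : ∀ i, i < 111 → Fx W30 (i + 0) := by decide +kernel

theorem ok30_0 : ∀ i, i < 0 → Fx W30 i := fun _ h => absurd h (Nat.not_lt_zero _)

theorem ok30_111 : ∀ i, i < 0 + 111 → Fx W30 i := glue ok30_0 w30_c0

theorem ok30 : ∀ i, i < 111 → Fx W30 i := ok30_111

theorem w22_c0 : ∀ i, i < 111 → Fx W22 (i + 0) := by decide +kernel

theorem ok22_0 : ∀ i, i < 0 → Fx W22 i := fun _ h => absurd h (Nat.not_lt_zero _)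

theorem ok22_111 : ∀ i, i < 0 + 111 → Fx W22 i := glue ok22_0 w22_c0

theorem ok22 : ∀ i, i < 111 → Fx W22 i := ok22_111

theorem w25_c0 : ∀ i, i < 111 → Fx W25 (i + 0) := by decide +kernel

theorem ok25_0 : ∀ i, i < 0 → Fx W25 i := fun _ h => absurd h (Nat.not_lt_zero _)

theorem ok25_111 : ∀ i, i < 0 + 111 → Fx W25 i := glue ok25_0 w25_c0

theorem ok25 : ∀ i, i < 111 → Fx W25 i := ok25_111

theorem w16_c0 : ∀ i, i < 111 → Fx W16 (i + 0) := by decide +kernel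

theorem ok16_0 : ∀ i, i < 0 → Fx W16 i := fun _ h => absurd h (Nat.not_lt_zero _)

theorem ok16_111 : ∀ i, i < 0 + 111 → Fx W16 i := glue ok16_0 w16_c0

theorem ok16 : ∀ i, i < 111 → Fx W16 i := ok16_111

theorem w10_c0 : ∀ i, i < 111 → Fx W10 (i + 0) := by decide +kernel

theorem ok10_0 : ∀ i, i < 0 → Fx W10 i := fun _ h => absurd h (Nat.not_lt_zero _)

theorem ok10_111 : ∀ i, i < 0 + 111 → Fx W10 i := glue ok10_0 w10_c0

theorem ok10 : ∀ i, i < 111 → Fx W10 i := ok10_111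

theorem w7_c0 : ∀ i, i < 111 → Fx W7 (i + 0) := by decide +kernel

theorem ok7_0 : ∀ i, i < 0 → Fx W7 i := fun _ h => absurd h (Nat.not_lt_zero _)

theorem ok7_111 : ∀ i, i < 0 + 111 → Fx W7 i := glue ok7_0 w7_c0

theorem ok7 : ∀ i, i < 111 → Fx W7 i := ok7_111

theorem w18_c0 : ∀ i, i < 111 → Fx W18 (i + 0) := by decide +kernel

theorem ok18_0 : ∀ i, i < 0 → Fx W18 i := fun _ h => absurd h (Nat.not_lt_zero _)

theorem ok18_111 : ∀ i, i < 0 + 111 → Fx W18 i := glue ok18_0 w18_c0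

theorem ok18 : ∀ i, i < 111 → Fx W18 i := ok18_111


end Cfsg.Agent.Lib.LyV111
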