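import Mathlib
import Cfsg.Agent.Lib.LyV111.Data

set_option autoImplicit false
set_option maxRecDepth 100000
set_option linter.all false
set_option Elab.async false

namespace Cfsg.Agent.Lib.LyV111

open Cfsg.Spor.Ly Cfsg.Agent.Lib.FpVec

theorem w27_c0 : ∀ i, i < 77 → Fx W27 (i + 0) := by decide +kernel

theorem w27_c77 : ∀ i, i < 34 → Fx W27 (i + 77) := by decide +kernel

theorem ok27_0 : ∀ i, i < 0 → Fx W27 i := fun _ h => absurd h (Nat.not_lt_zero _)

theorem ok27_77 : ∀ i, i < 0 + 77 → Fx W27 i := glue ok27_0 w27_c0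

theorem ok27_111 : ∀ i, i < 77 + 34 → Fx W27 i := glue ok27_77 w27_c77

theorem ok27 : ∀ i, i < 111 → Fx W27 i := ok27_111

theorem w35_c0 : ∀ i, i < 107 → Fx W35 (i + 0) := by decide +kernel

theorem w35_c107 : ∀ i, i < 4 → Fx W35 (i + 107) := by decide +kernel

theorem ok35_0 : ∀ i, i < 0 → Fx W35 i := fun _ h => absurd h (Nat.not_lt_zero _)

theorem ok35_107 : ∀ i, i < 0 + 107 → Fx W35 i := glue ok35_0 w35_c0

theorem ok35_111 : ∀ i, i < 107 + 4 → Fx W35 i := glue ok35_107 w35_c107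

theorem ok35 : ∀ i, i < 111 → Fx W35 i := ok35_111

theorem w44_c0 : ∀ i, i < 111 → Fx W44 (i + 0) := by decide +kernel

theorem ok44_0 : ∀ i, i < 0 → Fx W44 i := fun _ h => absurd h (Nat.not_lt_zero _)

theorem ok44_111 : ∀ i, i < 0 + 111 → Fx W44 i := glue ok44_0 w44_c0

theorem ok44 : ∀ i, i < 111 → Fx W44 i := ok44_111

theorem w45_c0 : ∀ i, i < 111 → Fx W45 (i + 0) := by decide +kernel

theorem ok45_0 : ∀ i, i < 0 → Fx W45 i := fun _ h => absurd h (Nat.not_lt_zero _)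

theorem ok45_111 : ∀ i, i < 0 + 111 → Fx W45 i := glue ok45_0 w45_c0

theorem ok45 : ∀ i, i < 111 → Fx W45 i := ok45_111

theorem w42_c0 : ∀ i, i < 111 → Fx W42 (i + 0) := by decide +kernel

theorem ok42_0 : ∀ i, i < 0 → Fx W42 i := fun _ h => absurd h (Nat.not_lt_zero _)

theorem ok42_111 : ∀ i, i < 0 + 111 → Fx W42 i := glue ok42_0 w42_c0

theorem ok42 : ∀ i, i < 111 → Fx W42 i := ok42_111

theorem w38_c0 : ∀ i, i < 111 → Fx W38 (i + 0) := by decide +kernel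

theorem ok38_0 : ∀ i, i < 0 → Fx W38 i := fun _ h => absurd h (Nat.not_lt_zero _)

theorem ok38_111 : ∀ i, i < 0 + 111 → Fx W38 i := glue ok38_0 w38_c0

theorem ok38 : ∀ i, i < 111 → Fx W38 i := ok38_111

theorem w17_c0 : ∀ i, i < 111 → Fx W17 (i + 0) := by decide +kernel

theorem ok17_0 : ∀ i, i < 0 → Fx W17 i := fun _ h => absurd h (Nat.not_lt_zero _)

theorem ok17_111 : ∀ i, i < 0 + 111 → Fx W17 i := glue ok17_0 w17_c0

theorem ok17 : ∀ i, i < 111 → Fx W17 i := ok17_111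

theorem w11_c0 : ∀ i, i < 111 → Fx W11 (i + 0) := by decide +kernel

theorem ok11_0 : ∀ i, i < 0 → Fx W11 i := fun _ h => absurd h (Nat.not_lt_zero _)

theorem ok11_111 : ∀ i, i < 0 + 111 → Fx W11 i := glue ok11_0 w11_c0

theorem ok11 : ∀ i, i < 111 → Fx W11 i := ok11_111

theorem w26_c0 : ∀ i, i < 111 → Fx W26 (i + 0) := by decide +kernel

theorem ok26_0 : ∀ i, i < 0 → Fx W26 i := fun _ h => absurd h (Nat.not_lt_zero _)

theorem ok26_111 : ∀ i, i < 0 + 111 → Fx W26 i := glue ok26_0 w26_c0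

theorem ok26 : ∀ i, i < 111 → Fx W26 i := ok26_111


end Cfsg.Agent.Lib.LyV111
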