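import Mathlib
import Cfsg.Agent.Lib.LyV111.Data

set_option autoImplicit false
set_option maxRecDepth 100000
set_option linter.all false
set_option Elab.async false

namespace Cfsg.Agent.Lib.LyV111

open Cfsg.Spor.Ly Cfsg.Agent.Lib.FpVec

theorem w37_c0 : ∀ i, i < 82 → Fx W37 (i + 0) := by decide +kernel

theorem w37_c82 : ∀ i, i < 29 → Fx W37 (i + 82) := by decide +kernel

theorem ok37_0 : ∀ i, i < 0 → Fx W37 i := fun _ h => absurd h (Nat.not_lt_zero _)

theorem ok37_82 : ∀ i, i < 0 + 82 → Fx W37 i := glue ok37_0 w37_c0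

theorem ok37_111 : ∀ i, i < 82 + 29 → Fx W37 i := glue ok37_82 w37_c82

theorem ok37 : ∀ i, i < 111 → Fx W37 i := ok37_111

theorem w33_c0 : ∀ i, i < 107 → Fx W33 (i + 0) := by decide +kernel

theorem w33_c107 : ∀ i, i < 4 → Fx W33 (i + 107) := by decide +kernel

theorem ok33_0 : ∀ i, i < 0 → Fx W33 i := fun _ h => absurd h (Nat.not_lt_zero _)

theorem ok33_107 : ∀ i, i < 0 + 107 → Fx W33 i := glue ok33_0 w33_c0

theorem ok33_111 : ∀ i, i < 107 + 4 → Fx W33 i := glue ok33_107 w33_c107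

theorem ok33 : ∀ i, i < 111 → Fx W33 i := ok33_111

theorem w36_c0 : ∀ i, i < 111 → Fx W36 (i + 0) := by decide +kernel

theorem ok36_0 : ∀ i, i < 0 → Fx W36 i := fun _ h => absurd h (Nat.not_lt_zero _)

theorem ok36_111 : ∀ i, i < 0 + 111 → Fx W36 i := glue ok36_0 w36_c0

theorem ok36 : ∀ i, i < 111 → Fx W36 i := ok36_111

theorem w46_c0 : ∀ i, i < 111 → Fx W46 (i + 0) := by decide +kernel

theorem ok46_0 : ∀ i, i < 0 → Fx W46 i := fun _ h => absurd h (Nat.not_lt_zero _)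

theorem ok46_111 : ∀ i, i < 0 + 111 → Fx W46 i := glue ok46_0 w46_c0

theorem ok46 : ∀ i, i < 111 → Fx W46 i := ok46_111

theorem w21_c0 : ∀ i, i < 111 → Fx W21 (i + 0) := by decide +kernel

theorem ok21_0 : ∀ i, i < 0 → Fx W21 i := fun _ h => absurd h (Nat.not_lt_zero _)

theorem ok21_111 : ∀ i, i < 0 + 111 → Fx W21 i := glue ok21_0 w21_c0

theorem ok21 : ∀ i, i < 111 → Fx W21 i := ok21_111

theorem w3_c0 : ∀ i, i < 111 → Fx W3 (i + 0) := by decide +kernel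

theorem ok3_0 : ∀ i, i < 0 → Fx W3 i := fun _ h => absurd h (Nat.not_lt_zero _)

theorem ok3_111 : ∀ i, i < 0 + 111 → Fx W3 i := glue ok3_0 w3_c0

theorem ok3 : ∀ i, i < 111 → Fx W3 i := ok3_111

theorem w1_c0 : ∀ i, i < 111 → Fx W1 (i + 0) := by decide +kernel

theorem ok1_0 : ∀ i, i < 0 → Fx W1 i := fun _ h => absurd h (Nat.not_lt_zero _)

theorem ok1_111 : ∀ i, i < 0 + 111 → Fx W1 i := glue ok1_0 w1_c0

theorem ok1 : ∀ i, i < 111 → Fx W1 i := ok1_111

theorem w20_c0 : ∀ i, i < 111 → Fx W20 (i + 0) := by decide +kernel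

theorem ok20_0 : ∀ i, i < 0 → Fx W20 i := fun _ h => absurd h (Nat.not_lt_zero _)

theorem ok20_111 : ∀ i, i < 0 + 111 → Fx W20 i := glue ok20_0 w20_c0

theorem ok20 : ∀ i, i < 111 → Fx W20 i := ok20_111

theorem w39_c0 : ∀ i, i < 111 → Fx W39 (i + 0) := by decide +kernel

theorem ok39_0 : ∀ i, i < 0 → Fx W39 i := fun _ h => absurd h (Nat.not_lt_zero _)

theorem ok39_111 : ∀ i, i < 0 + 111 → Fx W39 i := glue ok39_0 w39_c0

theorem ok39 : ∀ i, i < 111 → Fx W39 i := ok39_111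


end Cfsg.Agent.Lib.LyV111
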