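import Mathlib
import Cfsg.Agent.Lib.LyV111.Data

set_option autoImplicit false
set_option maxRecDepth 100000
set_option linter.all false
set_option Elab.async false

namespace Cfsg.Agent.Lib.LyV111

open Cfsg.Spor.Ly Cfsg.Agent.Lib.FpVec

theorem w47_c0 : ∀ i, i < 100 → Fx W47 (i + 0) := by decide +kernel

theorem w47_c100 : ∀ i, i < 11 → Fx W47 (i + 100) := by decide +kernel

theorem ok47_0 : ∀ i, i < 0 → Fx W47 i := fun _ h => absurd h (Nat.not_lt_zero _)

theorem ok47_100 : ∀ i, i < 0 + 100 → Fx W47 i := glue ok47_0 w47_c0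

theorem ok47_111 : ∀ i, i < 100 + 11 → Fx W47 i := glue ok47_100 w47_c100

theorem ok47 : ∀ i, i < 111 → Fx W47 i := ok47_111

theorem w50_c0 : ∀ i, i < 100 → Fx W50 (i + 0) := by decide +kernel

theorem w50_c100 : ∀ i, i < 11 → Fx W50 (i + 100) := by decide +kernel

theorem ok50_0 : ∀ i, i < 0 → Fx W50 i := fun _ h => absurd h (Nat.not_lt_zero _)

theorem ok50_100 : ∀ i, i < 0 + 100 → Fx W50 i := glue ok50_0 w50_c0

theorem ok50_111 : ∀ i, i < 100 + 11 → Fx W50 i := glue ok50_100 w50_c100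

theorem ok50 : ∀ i, i < 111 → Fx W50 i := ok50_111

theorem w4_c0 : ∀ i, i < 111 → Fx W4 (i + 0) := by decide +kernel

theorem ok4_0 : ∀ i, i < 0 → Fx W4 i := fun _ h => absurd h (Nat.not_lt_zero _)

theorem ok4_111 : ∀ i, i < 0 + 111 → Fx W4 i := glue ok4_0 w4_c0

theorem ok4 : ∀ i, i < 111 → Fx W4 i := ok4_111

theorem w41_c0 : ∀ i, i < 111 → Fx W41 (i + 0) := by decide +kernel

theorem ok41_0 : ∀ i, i < 0 → Fx W41 i := fun _ h => absurd h (Nat.not_lt_zero _)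

theorem ok41_111 : ∀ i, i < 0 + 111 → Fx W41 i := glue ok41_0 w41_c0

theorem ok41 : ∀ i, i < 111 → Fx W41 i := ok41_111

theorem w24_c0 : ∀ i, i < 111 → Fx W24 (i + 0) := by decide +kernel

theorem ok24_0 : ∀ i, i < 0 → Fx W24 i := fun _ h => absurd h (Nat.not_lt_zero _)

theorem ok24_111 : ∀ i, i < 0 + 111 → Fx W24 i := glue ok24_0 w24_c0

theorem ok24 : ∀ i, i < 111 → Fx W24 i := ok24_111

theorem w34_c0 : ∀ i, i < 111 → Fx W34 (i + 0) := by decide +kernel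

theorem ok34_0 : ∀ i, i < 0 → Fx W34 i := fun _ h => absurd h (Nat.not_lt_zero _)

theorem ok34_111 : ∀ i, i < 0 + 111 → Fx W34 i := glue ok34_0 w34_c0

theorem ok34 : ∀ i, i < 111 → Fx W34 i := ok34_111

theorem w8_c0 : ∀ i, i < 111 → Fx W8 (i + 0) := by decide +kernel

theorem ok8_0 : ∀ i, i < 0 → Fx W8 i := fun _ h => absurd h (Nat.not_lt_zero _)

theorem ok8_111 : ∀ i, i < 0 + 111 → Fx W8 i := glue ok8_0 w8_c0

theorem ok8 : ∀ i, i < 111 → Fx W8 i := ok8_111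

theorem w23_c0 : ∀ i, i < 111 → Fx W23 (i + 0) := by decide +kernel

theorem ok23_0 : ∀ i, i < 0 → Fx W23 i := fun _ h => absurd h (Nat.not_lt_zero _)

theorem ok23_111 : ∀ i, i < 0 + 111 → Fx W23 i := glue ok23_0 w23_c0

theorem ok23 : ∀ i, i < 111 → Fx W23 i := ok23_111

theorem w51_c0 : ∀ i, i < 111 → Fx W51 (i + 0) := by decide +kernel

theorem ok51_0 : ∀ i, i < 0 → Fx W51 i := fun _ h => absurd h (Nat.not_lt_zero _)

theorem ok51_111 : ∀ i, i < 0 + 111 → Fx W51 i := glue ok51_0 w51_c0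

theorem ok51 : ∀ i, i < 111 → Fx W51 i := ok51_111


end Cfsg.Agent.Lib.LyV111
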