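import Mathlib
import Cfsg.Agent.Lib.LyV111.Data

/-!
# A representation of degree 111: the validity of the matrices

The check is split in short parts: a long list is disproportionately slow in the kernel.
-/

set_option autoImplicit false
set_option maxRecDepth 100000
set_option linter.all false
set_option Elab.async false
set_option maxHeartbeats 0

namespace Cfsg.Agent.Lib.LyV111

open Cfsg.Spor.Ly Cfsg.Agent.Lib.FpVec

/-- A conjunction over a list, by the bare recursor (fast in the kernel). -/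
def allF (f : ℕ → Bool) (l : List ℕ) : Bool :=
  List.rec (motive := fun _ => Bool) true (fun c _ ih => f c && ih) l

theorem allF_all (f : ℕ → Bool) (l : List ℕ) (h : allF f l = true) : ∀ c ∈ l, f c = true := by
  induction l with
  | nil => intro c hc; simp at hc
  | cons c l ih =>
    have h2 : (f c && allF f l) = true := h
    rw [Bool.and_eq_true] at h2
    intro d hd
    rcases List.mem_cons.mp hd with rfl | hd
    · exact h2.1
    · exact ih h2.2 d hd

theorem all_of_chunks (f : ℕ → Bool) (n : ℕ) (l : List ℕ) (hl : l.length ≤ 10 * n)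
    (h : ∀ k, k < n → allF f ((l.drop (10 * k)).take 10) = true) : ∀ c ∈ l, f c = true := by
  induction n generalizing l with
  | zero =>
    intro c hc
    have : l = [] := List.eq_nil_of_length_eq_zero (by omega)
    subst this
    simp at hc
  | succ n ih =>
    intro c hc
    rw [← List.take_append_drop 10 l, List.mem_append] at hc
    rcases hc with hc | hc
    · have := h 0 (by omega)
      simp only [Nat.mul_zero, List.drop_zero] at this
      exact allF_all f _ this c hc
    · refine ih (l.drop 10) (by rw [List.length_drop]; omega) ?_ c hc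
      intro k hk
      have := h (k + 1) (by omega)
      rw [List.drop_drop]
      have e : 10 * (k + 1) = 10 + 10 * k := by ring
      rw [e] at this
      exact this

/-- The test of one column. -/
def colF (c : ℕ) : Bool := Nat.beq (redu 2048 5 111 c) c

theorem validC_of_chunks (l : List ℕ) (hlen : Nat.beq l.length 111 = true)
    (h : ∀ k, k < 12 → allF colF ((l.drop (10 * k)).take 10) = true) : validC 2048 5 111 l = true := by
  unfold validC
  rw [Bool.and_eq_true]
  refine ⟨hlen, ?_⟩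
  rw [List.all_eq_true]
  have h2 : l.length ≤ 10 * 12 := by
    have := Nat.eq_of_beq_eq_true hlen
    omega
  exact all_of_chunks colF 12 l h2 h

theorem Ma_ch0 : allF colF ((Ma.drop (10 * 0)).take 10) = true := by decide +kernel
theorem Ma_ch1 : allF colF ((Ma.drop (10 * 1)).take 10) = true := by decide +kernel
theorem Ma_ch2 : allF colF ((Ma.drop (10 * 2)).take 10) = true := by decide +kernel
theorem Ma_ch3 : allF colF ((Ma.drop (10 * 3)).take 10) = true := by decide +kernel
theorem Ma_ch4 : allF colF ((Ma.drop (10 * 4)).take 10) = true := by decide +kernel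
theorem Ma_ch5 : allF colF ((Ma.drop (10 * 5)).take 10) = true := by decide +kernel
theorem Ma_ch6 : allF colF ((Ma.drop (10 * 6)).take 10) = true := by decide +kernel
theorem Ma_ch7 : allF colF ((Ma.drop (10 * 7)).take 10) = true := by decide +kernel
theorem Ma_ch8 : allF colF ((Ma.drop (10 * 8)).take 10) = true := by decide +kernel
theorem Ma_ch9 : allF colF ((Ma.drop (10 * 9)).take 10) = true := by decide +kernel
theorem Ma_ch10 : allF colF ((Ma.drop (10 * 10)).take 10) = true := by decide +kernel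
theorem Ma_ch11 : allF colF ((Ma.drop (10 * 11)).take 10) = true := by decide +kernel

theorem Ma_valid : validC 2048 5 111 Ma = true := by
  apply validC_of_chunks _ (by decide +kernel)
  intro k hk
  have : k = 0 ∨ k = 1 ∨ k = 2 ∨ k = 3 ∨ k = 4 ∨ k = 5 ∨ k = 6 ∨ k = 7 ∨ k = 8 ∨ k = 9 ∨ k = 10 ∨ k = 11 := by omega
  rcases this with rfl | rfl | rfl | rfl | rfl | rfl | rfl | rfl | rfl | rfl | rfl | rfl
  exacts [Ma_ch0, Ma_ch1, Ma_ch2, Ma_ch3, Ma_ch4, Ma_ch5, Ma_ch6, Ma_ch7, Ma_ch8, Ma_ch9, Ma_ch10, Ma_ch11]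

theorem Ia_ch0 : allF colF ((Ia.drop (10 * 0)).take 10) = true := by decide +kernel
theorem Ia_ch1 : allF colF ((Ia.drop (10 * 1)).take 10) = true := by decide +kernel
theorem Ia_ch2 : allF colF ((Ia.drop (10 * 2)).take 10) = true := by decide +kernel
theorem Ia_ch3 : allF colF ((Ia.drop (10 * 3)).take 10) = true := by decide +kernel
theorem Ia_ch4 : allF colF ((Ia.drop (10 * 4)).take 10) = true := by decide +kernel
theorem Ia_ch5 : allF colF ((Ia.drop (10 * 5)).take 10) = true := by decide +kernel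
theorem Ia_ch6 : allF colF ((Ia.drop (10 * 6)).take 10) = true := by decide +kernel
theorem Ia_ch7 : allF colF ((Ia.drop (10 * 7)).take 10) = true := by decide +kernel
theorem Ia_ch8 : allF colF ((Ia.drop (10 * 8)).take 10) = true := by decide +kernel
theorem Ia_ch9 : allF colF ((Ia.drop (10 * 9)).take 10) = true := by decide +kernel
theorem Ia_ch10 : allF colF ((Ia.drop (10 * 10)).take 10) = true := by decide +kernel
theorem Ia_ch11 : allF colF ((Ia.drop (10 * 11)).take 10) = true := by decide +kernel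

theorem Ia_valid : validC 2048 5 111 Ia = true := by
  apply validC_of_chunks _ (by decide +kernel)
  intro k hk
  have : k = 0 ∨ k = 1 ∨ k = 2 ∨ k = 3 ∨ k = 4 ∨ k = 5 ∨ k = 6 ∨ k = 7 ∨ k = 8 ∨ k = 9 ∨ k = 10 ∨ k = 11 := by omega
  rcases this with rfl | rfl | rfl | rfl | rfl | rfl | rfl | rfl | rfl | rfl | rfl | rfl
  exacts [Ia_ch0, Ia_ch1, Ia_ch2, Ia_ch3, Ia_ch4, Ia_ch5, Ia_ch6, Ia_ch7, Ia_ch8, Ia_ch9, Ia_ch10, Ia_ch11]

theorem Mb_ch0 : allF colF ((Mb.drop (10 * 0)).take 10) = true := by decide +kernel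
theorem Mb_ch1 : allF colF ((Mb.drop (10 * 1)).take 10) = true := by decide +kernel
theorem Mb_ch2 : allF colF ((Mb.drop (10 * 2)).take 10) = true := by decide +kernel
theorem Mb_ch3 : allF colF ((Mb.drop (10 * 3)).take 10) = true := by decide +kernel
theorem Mb_ch4 : allF colF ((Mb.drop (10 * 4)).take 10) = true := by decide +kernel
theorem Mb_ch5 : allF colF ((Mb.drop (10 * 5)).take 10) = true := by decide +kernel
theorem Mb_ch6 : allF colF ((Mb.drop (10 * 6)).take 10) = true := by decide +kernel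
theorem Mb_ch7 : allF colF ((Mb.drop (10 * 7)).take 10) = true := by decide +kernel
theorem Mb_ch8 : allF colF ((Mb.drop (10 * 8)).take 10) = true := by decide +kernel
theorem Mb_ch9 : allF colF ((Mb.drop (10 * 9)).take 10) = true := by decide +kernel
theorem Mb_ch10 : allF colF ((Mb.drop (10 * 10)).take 10) = true := by decide +kernel
theorem Mb_ch11 : allF colF ((Mb.drop (10 * 11)).take 10) = true := by decide +kernel

theorem Mb_valid : validC 2048 5 111 Mb = true := by
  apply validC_of_chunks _ (by decide +kernel)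
  intro k hk
  have : k = 0 ∨ k = 1 ∨ k = 2 ∨ k = 3 ∨ k = 4 ∨ k = 5 ∨ k = 6 ∨ k = 7 ∨ k = 8 ∨ k = 9 ∨ k = 10 ∨ k = 11 := by omega
  rcases this with rfl | rfl | rfl | rfl | rfl | rfl | rfl | rfl | rfl | rfl | rfl | rfl
  exacts [Mb_ch0, Mb_ch1, Mb_ch2, Mb_ch3, Mb_ch4, Mb_ch5, Mb_ch6, Mb_ch7, Mb_ch8, Mb_ch9, Mb_ch10, Mb_ch11]

theorem Ib_ch0 : allF colF ((Ib.drop (10 * 0)).take 10) = true := by decide +kernel
theorem Ib_ch1 : allF colF ((Ib.drop (10 * 1)).take 10) = true := by decide +kernel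
theorem Ib_ch2 : allF colF ((Ib.drop (10 * 2)).take 10) = true := by decide +kernel
theorem Ib_ch3 : allF colF ((Ib.drop (10 * 3)).take 10) = true := by decide +kernel
theorem Ib_ch4 : allF colF ((Ib.drop (10 * 4)).take 10) = true := by decide +kernel
theorem Ib_ch5 : allF colF ((Ib.drop (10 * 5)).take 10) = true := by decide +kernel
theorem Ib_ch6 : allF colF ((Ib.drop (10 * 6)).take 10) = true := by decide +kernel
theorem Ib_ch7 : allF colF ((Ib.drop (10 * 7)).take 10) = true := by decide +kernel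
theorem Ib_ch8 : allF colF ((Ib.drop (10 * 8)).take 10) = true := by decide +kernel
theorem Ib_ch9 : allF colF ((Ib.drop (10 * 9)).take 10) = true := by decide +kernel
theorem Ib_ch10 : allF colF ((Ib.drop (10 * 10)).take 10) = true := by decide +kernel
theorem Ib_ch11 : allF colF ((Ib.drop (10 * 11)).take 10) = true := by decide +kernel

theorem Ib_valid : validC 2048 5 111 Ib = true := by
  apply validC_of_chunks _ (by decide +kernel)
  intro k hk
  have : k = 0 ∨ k = 1 ∨ k = 2 ∨ k = 3 ∨ k = 4 ∨ k = 5 ∨ k = 6 ∨ k = 7 ∨ k = 8 ∨ k = 9 ∨ k = 10 ∨ k = 11 := by omega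
  rcases this with rfl | rfl | rfl | rfl | rfl | rfl | rfl | rfl | rfl | rfl | rfl | rfl
  exacts [Ib_ch0, Ib_ch1, Ib_ch2, Ib_ch3, Ib_ch4, Ib_ch5, Ib_ch6, Ib_ch7, Ib_ch8, Ib_ch9, Ib_ch10, Ib_ch11]

theorem Mc_ch0 : allF colF ((Mc.drop (10 * 0)).take 10) = true := by decide +kernel
theorem Mc_ch1 : allF colF ((Mc.drop (10 * 1)).take 10) = true := by decide +kernel
theorem Mc_ch2 : allF colF ((Mc.drop (10 * 2)).take 10) = true := by decide +kernel
theorem Mc_ch3 : allF colF ((Mc.drop (10 * 3)).take 10) = true := by decide +kernel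
theorem Mc_ch4 : allF colF ((Mc.drop (10 * 4)).take 10) = true := by decide +kernel
theorem Mc_ch5 : allF colF ((Mc.drop (10 * 5)).take 10) = true := by decide +kernel
theorem Mc_ch6 : allF colF ((Mc.drop (10 * 6)).take 10) = true := by decide +kernel
theorem Mc_ch7 : allF colF ((Mc.drop (10 * 7)).take 10) = true := by decide +kernel
theorem Mc_ch8 : allF colF ((Mc.drop (10 * 8)).take 10) = true := by decide +kernel
theorem Mc_ch9 : allF colF ((Mc.drop (10 * 9)).take 10) = true := by decide +kernel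
theorem Mc_ch10 : allF colF ((Mc.drop (10 * 10)).take 10) = true := by decide +kernel
theorem Mc_ch11 : allF colF ((Mc.drop (10 * 11)).take 10) = true := by decide +kernel

theorem Mc_valid : validC 2048 5 111 Mc = true := by
  apply validC_of_chunks _ (by decide +kernel)
  intro k hk
  have : k = 0 ∨ k = 1 ∨ k = 2 ∨ k = 3 ∨ k = 4 ∨ k = 5 ∨ k = 6 ∨ k = 7 ∨ k = 8 ∨ k = 9 ∨ k = 10 ∨ k = 11 := by omega
  rcases this with rfl | rfl | rfl | rfl | rfl | rfl | rfl | rfl | rfl | rfl | rfl | rfl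
  exacts [Mc_ch0, Mc_ch1, Mc_ch2, Mc_ch3, Mc_ch4, Mc_ch5, Mc_ch6, Mc_ch7, Mc_ch8, Mc_ch9, Mc_ch10, Mc_ch11]

theorem Ic_ch0 : allF colF ((Ic.drop (10 * 0)).take 10) = true := by decide +kernel
theorem Ic_ch1 : allF colF ((Ic.drop (10 * 1)).take 10) = true := by decide +kernel
theorem Ic_ch2 : allF colF ((Ic.drop (10 * 2)).take 10) = true := by decide +kernel
theorem Ic_ch3 : allF colF ((Ic.drop (10 * 3)).take 10) = true := by decide +kernel
theorem Ic_ch4 : allF colF ((Ic.drop (10 * 4)).take 10) = true := by decide +kernel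
theorem Ic_ch5 : allF colF ((Ic.drop (10 * 5)).take 10) = true := by decide +kernel
theorem Ic_ch6 : allF colF ((Ic.drop (10 * 6)).take 10) = true := by decide +kernel
theorem Ic_ch7 : allF colF ((Ic.drop (10 * 7)).take 10) = true := by decide +kernel
theorem Ic_ch8 : allF colF ((Ic.drop (10 * 8)).take 10) = true := by decide +kernel
theorem Ic_ch9 : allF colF ((Ic.drop (10 * 9)).take 10) = true := by decide +kernel
theorem Ic_ch10 : allF colF ((Ic.drop (10 * 10)).take 10) = true := by decide +kernel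
theorem Ic_ch11 : allF colF ((Ic.drop (10 * 11)).take 10) = true := by decide +kernel

theorem Ic_valid : validC 2048 5 111 Ic = true := by
  apply validC_of_chunks _ (by decide +kernel)
  intro k hk
  have : k = 0 ∨ k = 1 ∨ k = 2 ∨ k = 3 ∨ k = 4 ∨ k = 5 ∨ k = 6 ∨ k = 7 ∨ k = 8 ∨ k = 9 ∨ k = 10 ∨ k = 11 := by omega
  rcases this with rfl | rfl | rfl | rfl | rfl | rfl | rfl | rfl | rfl | rfl | rfl | rfl
  exacts [Ic_ch0, Ic_ch1, Ic_ch2, Ic_ch3, Ic_ch4, Ic_ch5, Ic_ch6, Ic_ch7, Ic_ch8, Ic_ch9, Ic_ch10, Ic_ch11]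

theorem Md_ch0 : allF colF ((Md.drop (10 * 0)).take 10) = true := by decide +kernel
theorem Md_ch1 : allF colF ((Md.drop (10 * 1)).take 10) = true := by decide +kernel
theorem Md_ch2 : allF colF ((Md.drop (10 * 2)).take 10) = true := by decide +kernel
theorem Md_ch3 : allF colF ((Md.drop (10 * 3)).take 10) = true := by decide +kernel
theorem Md_ch4 : allF colF ((Md.drop (10 * 4)).take 10) = true := by decide +kernel
theorem Md_ch5 : allF colF ((Md.drop (10 * 5)).take 10) = true := by decide +kernel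
theorem Md_ch6 : allF colF ((Md.drop (10 * 6)).take 10) = true := by decide +kernel
theorem Md_ch7 : allF colF ((Md.drop (10 * 7)).take 10) = true := by decide +kernel
theorem Md_ch8 : allF colF ((Md.drop (10 * 8)).take 10) = true := by decide +kernel
theorem Md_ch9 : allF colF ((Md.drop (10 * 9)).take 10) = true := by decide +kernel
theorem Md_ch10 : allF colF ((Md.drop (10 * 10)).take 10) = true := by decide +kernel
theorem Md_ch11 : allF colF ((Md.drop (10 * 11)).take 10) = true := by decide +kernel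

theorem Md_valid : validC 2048 5 111 Md = true := by
  apply validC_of_chunks _ (by decide +kernel)
  intro k hk
  have : k = 0 ∨ k = 1 ∨ k = 2 ∨ k = 3 ∨ k = 4 ∨ k = 5 ∨ k = 6 ∨ k = 7 ∨ k = 8 ∨ k = 9 ∨ k = 10 ∨ k = 11 := by omega
  rcases this with rfl | rfl | rfl | rfl | rfl | rfl | rfl | rfl | rfl | rfl | rfl | rfl
  exacts [Md_ch0, Md_ch1, Md_ch2, Md_ch3, Md_ch4, Md_ch5, Md_ch6, Md_ch7, Md_ch8, Md_ch9, Md_ch10, Md_ch11]

theorem Id_ch0 : allF colF ((Id.drop (10 * 0)).take 10) = true := by decide +kernel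
theorem Id_ch1 : allF colF ((Id.drop (10 * 1)).take 10) = true := by decide +kernel
theorem Id_ch2 : allF colF ((Id.drop (10 * 2)).take 10) = true := by decide +kernel
theorem Id_ch3 : allF colF ((Id.drop (10 * 3)).take 10) = true := by decide +kernel
theorem Id_ch4 : allF colF ((Id.drop (10 * 4)).take 10) = true := by decide +kernel
theorem Id_ch5 : allF colF ((Id.drop (10 * 5)).take 10) = true := by decide +kernel
theorem Id_ch6 : allF colF ((Id.drop (10 * 6)).take 10) = true := by decide +kernel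
theorem Id_ch7 : allF colF ((Id.drop (10 * 7)).take 10) = true := by decide +kernel
theorem Id_ch8 : allF colF ((Id.drop (10 * 8)).take 10) = true := by decide +kernel
theorem Id_ch9 : allF colF ((Id.drop (10 * 9)).take 10) = true := by decide +kernel
theorem Id_ch10 : allF colF ((Id.drop (10 * 10)).take 10) = true := by decide +kernel
theorem Id_ch11 : allF colF ((Id.drop (10 * 11)).take 10) = true := by decide +kernel

theorem Id_valid : validC 2048 5 111 Id = true := by
  apply validC_of_chunks _ (by decide +kernel)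
  intro k hk
  have : k = 0 ∨ k = 1 ∨ k = 2 ∨ k = 3 ∨ k = 4 ∨ k = 5 ∨ k = 6 ∨ k = 7 ∨ k = 8 ∨ k = 9 ∨ k = 10 ∨ k = 11 := by omega
  rcases this with rfl | rfl | rfl | rfl | rfl | rfl | rfl | rfl | rfl | rfl | rfl | rfl
  exacts [Id_ch0, Id_ch1, Id_ch2, Id_ch3, Id_ch4, Id_ch5, Id_ch6, Id_ch7, Id_ch8, Id_ch9, Id_ch10, Id_ch11]

theorem Mz_ch0 : allF colF ((Mz.drop (10 * 0)).take 10) = true := by decide +kernel
theorem Mz_ch1 : allF colF ((Mz.drop (10 * 1)).take 10) = true := by decide +kernel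
theorem Mz_ch2 : allF colF ((Mz.drop (10 * 2)).take 10) = true := by decide +kernel
theorem Mz_ch3 : allF colF ((Mz.drop (10 * 3)).take 10) = true := by decide +kernel
theorem Mz_ch4 : allF colF ((Mz.drop (10 * 4)).take 10) = true := by decide +kernel
theorem Mz_ch5 : allF colF ((Mz.drop (10 * 5)).take 10) = true := by decide +kernel
theorem Mz_ch6 : allF colF ((Mz.drop (10 * 6)).take 10) = true := by decide +kernel
theorem Mz_ch7 : allF colF ((Mz.drop (10 * 7)).take 10) = true := by decide +kernel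
theorem Mz_ch8 : allF colF ((Mz.drop (10 * 8)).take 10) = true := by decide +kernel
theorem Mz_ch9 : allF colF ((Mz.drop (10 * 9)).take 10) = true := by decide +kernel
theorem Mz_ch10 : allF colF ((Mz.drop (10 * 10)).take 10) = true := by decide +kernel
theorem Mz_ch11 : allF colF ((Mz.drop (10 * 11)).take 10) = true := by decide +kernel

theorem Mz_valid : validC 2048 5 111 Mz = true := by
  apply validC_of_chunks _ (by decide +kernel)
  intro k hk
  have : k = 0 ∨ k = 1 ∨ k = 2 ∨ k = 3 ∨ k = 4 ∨ k = 5 ∨ k = 6 ∨ k = 7 ∨ k = 8 ∨ k = 9 ∨ k = 10 ∨ k = 11 := by omega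
  rcases this with rfl | rfl | rfl | rfl | rfl | rfl | rfl | rfl | rfl | rfl | rfl | rfl
  exacts [Mz_ch0, Mz_ch1, Mz_ch2, Mz_ch3, Mz_ch4, Mz_ch5, Mz_ch6, Mz_ch7, Mz_ch8, Mz_ch9, Mz_ch10, Mz_ch11]

theorem Iz_ch0 : allF colF ((Iz.drop (10 * 0)).take 10) = true := by decide +kernel
theorem Iz_ch1 : allF colF ((Iz.drop (10 * 1)).take 10) = true := by decide +kernel
theorem Iz_ch2 : allF colF ((Iz.drop (10 * 2)).take 10) = true := by decide +kernel
theorem Iz_ch3 : allF colF ((Iz.drop (10 * 3)).take 10) = true := by decide +kernel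
theorem Iz_ch4 : allF colF ((Iz.drop (10 * 4)).take 10) = true := by decide +kernel
theorem Iz_ch5 : allF colF ((Iz.drop (10 * 5)).take 10) = true := by decide +kernel
theorem Iz_ch6 : allF colF ((Iz.drop (10 * 6)).take 10) = true := by decide +kernel
theorem Iz_ch7 : allF colF ((Iz.drop (10 * 7)).take 10) = true := by decide +kernel
theorem Iz_ch8 : allF colF ((Iz.drop (10 * 8)).take 10) = true := by decide +kernel
theorem Iz_ch9 : allF colF ((Iz.drop (10 * 9)).take 10) = true := by decide +kernel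
theorem Iz_ch10 : allF colF ((Iz.drop (10 * 10)).take 10) = true := by decide +kernel
theorem Iz_ch11 : allF colF ((Iz.drop (10 * 11)).take 10) = true := by decide +kernel

theorem Iz_valid : validC 2048 5 111 Iz = true := by
  apply validC_of_chunks _ (by decide +kernel)
  intro k hk
  have : k = 0 ∨ k = 1 ∨ k = 2 ∨ k = 3 ∨ k = 4 ∨ k = 5 ∨ k = 6 ∨ k = 7 ∨ k = 8 ∨ k = 9 ∨ k = 10 ∨ k = 11 := by omega
  rcases this with rfl | rfl | rfl | rfl | rfl | rfl | rfl | rfl | rfl | rfl | rfl | rfl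
  exacts [Iz_ch0, Iz_ch1, Iz_ch2, Iz_ch3, Iz_ch4, Iz_ch5, Iz_ch6, Iz_ch7, Iz_ch8, Iz_ch9, Iz_ch10, Iz_ch11]

theorem Me_ch0 : allF colF ((Me.drop (10 * 0)).take 10) = true := by decide +kernel
theorem Me_ch1 : allF colF ((Me.drop (10 * 1)).take 10) = true := by decide +kernel
theorem Me_ch2 : allF colF ((Me.drop (10 * 2)).take 10) = true := by decide +kernel
theorem Me_ch3 : allF colF ((Me.drop (10 * 3)).take 10) = true := by decide +kernel
theorem Me_ch4 : allF colF ((Me.drop (10 * 4)).take 10) = true := by decide +kernel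
theorem Me_ch5 : allF colF ((Me.drop (10 * 5)).take 10) = true := by decide +kernel
theorem Me_ch6 : allF colF ((Me.drop (10 * 6)).take 10) = true := by decide +kernel
theorem Me_ch7 : allF colF ((Me.drop (10 * 7)).take 10) = true := by decide +kernel
theorem Me_ch8 : allF colF ((Me.drop (10 * 8)).take 10) = true := by decide +kernel
theorem Me_ch9 : allF colF ((Me.drop (10 * 9)).take 10) = true := by decide +kernel
theorem Me_ch10 : allF colF ((Me.drop (10 * 10)).take 10) = true := by decide +kernel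
theorem Me_ch11 : allF colF ((Me.drop (10 * 11)).take 10) = true := by decide +kernel

theorem Me_valid : validC 2048 5 111 Me = true := by
  apply validC_of_chunks _ (by decide +kernel)
  intro k hk
  have : k = 0 ∨ k = 1 ∨ k = 2 ∨ k = 3 ∨ k = 4 ∨ k = 5 ∨ k = 6 ∨ k = 7 ∨ k = 8 ∨ k = 9 ∨ k = 10 ∨ k = 11 := by omega
  rcases this with rfl | rfl | rfl | rfl | rfl | rfl | rfl | rfl | rfl | rfl | rfl | rfl
  exacts [Me_ch0, Me_ch1, Me_ch2, Me_ch3, Me_ch4, Me_ch5, Me_ch6, Me_ch7, Me_ch8, Me_ch9, Me_ch10, Me_ch11]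

theorem Ie_ch0 : allF colF ((Ie.drop (10 * 0)).take 10) = true := by decide +kernel
theorem Ie_ch1 : allF colF ((Ie.drop (10 * 1)).take 10) = true := by decide +kernel
theorem Ie_ch2 : allF colF ((Ie.drop (10 * 2)).take 10) = true := by decide +kernel
theorem Ie_ch3 : allF colF ((Ie.drop (10 * 3)).take 10) = true := by decide +kernel
theorem Ie_ch4 : allF colF ((Ie.drop (10 * 4)).take 10) = true := by decide +kernel
theorem Ie_ch5 : allF colF ((Ie.drop (10 * 5)).take 10) = true := by decide +kernel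
theorem Ie_ch6 : allF colF ((Ie.drop (10 * 6)).take 10) = true := by decide +kernel
theorem Ie_ch7 : allF colF ((Ie.drop (10 * 7)).take 10) = true := by decide +kernel
theorem Ie_ch8 : allF colF ((Ie.drop (10 * 8)).take 10) = true := by decide +kernel
theorem Ie_ch9 : allF colF ((Ie.drop (10 * 9)).take 10) = true := by decide +kernel
theorem Ie_ch10 : allF colF ((Ie.drop (10 * 10)).take 10) = true := by decide +kernel
theorem Ie_ch11 : allF colF ((Ie.drop (10 * 11)).take 10) = true := by decide +kernel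

theorem Ie_valid : validC 2048 5 111 Ie = true := by
  apply validC_of_chunks _ (by decide +kernel)
  intro k hk
  have : k = 0 ∨ k = 1 ∨ k = 2 ∨ k = 3 ∨ k = 4 ∨ k = 5 ∨ k = 6 ∨ k = 7 ∨ k = 8 ∨ k = 9 ∨ k = 10 ∨ k = 11 := by omega
  rcases this with rfl | rfl | rfl | rfl | rfl | rfl | rfl | rfl | rfl | rfl | rfl | rfl
  exacts [Ie_ch0, Ie_ch1, Ie_ch2, Ie_ch3, Ie_ch4, Ie_ch5, Ie_ch6, Ie_ch7, Ie_ch8, Ie_ch9, Ie_ch10, Ie_ch11]

theorem Mc2_ch0 : allF colF ((Mc2.drop (10 * 0)).take 10) = true := by decide +kernel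
theorem Mc2_ch1 : allF colF ((Mc2.drop (10 * 1)).take 10) = true := by decide +kernel
theorem Mc2_ch2 : allF colF ((Mc2.drop (10 * 2)).take 10) = true := by decide +kernel
theorem Mc2_ch3 : allF colF ((Mc2.drop (10 * 3)).take 10) = true := by decide +kernel
theorem Mc2_ch4 : allF colF ((Mc2.drop (10 * 4)).take 10) = true := by decide +kernel
theorem Mc2_ch5 : allF colF ((Mc2.drop (10 * 5)).take 10) = true := by decide +kernel
theorem Mc2_ch6 : allF colF ((Mc2.drop (10 * 6)).take 10) = true := by decide +kernel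
theorem Mc2_ch7 : allF colF ((Mc2.drop (10 * 7)).take 10) = true := by decide +kernel
theorem Mc2_ch8 : allF colF ((Mc2.drop (10 * 8)).take 10) = true := by decide +kernel
theorem Mc2_ch9 : allF colF ((Mc2.drop (10 * 9)).take 10) = true := by decide +kernel
theorem Mc2_ch10 : allF colF ((Mc2.drop (10 * 10)).take 10) = true := by decide +kernel
theorem Mc2_ch11 : allF colF ((Mc2.drop (10 * 11)).take 10) = true := by decide +kernel

theorem Mc2_valid : validC 2048 5 111 Mc2 = true := by
  apply validC_of_chunks _ (by decide +kernel)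
  intro k hk
  have : k = 0 ∨ k = 1 ∨ k = 2 ∨ k = 3 ∨ k = 4 ∨ k = 5 ∨ k = 6 ∨ k = 7 ∨ k = 8 ∨ k = 9 ∨ k = 10 ∨ k = 11 := by omega
  rcases this with rfl | rfl | rfl | rfl | rfl | rfl | rfl | rfl | rfl | rfl | rfl | rfl
  exacts [Mc2_ch0, Mc2_ch1, Mc2_ch2, Mc2_ch3, Mc2_ch4, Mc2_ch5, Mc2_ch6, Mc2_ch7, Mc2_ch8, Mc2_ch9, Mc2_ch10, Mc2_ch11]

theorem Ic2_ch0 : allF colF ((Ic2.drop (10 * 0)).take 10) = true := by decide +kernel
theorem Ic2_ch1 : allF colF ((Ic2.drop (10 * 1)).take 10) = true := by decide +kernel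
theorem Ic2_ch2 : allF colF ((Ic2.drop (10 * 2)).take 10) = true := by decide +kernel
theorem Ic2_ch3 : allF colF ((Ic2.drop (10 * 3)).take 10) = true := by decide +kernel
theorem Ic2_ch4 : allF colF ((Ic2.drop (10 * 4)).take 10) = true := by decide +kernel
theorem Ic2_ch5 : allF colF ((Ic2.drop (10 * 5)).take 10) = true := by decide +kernel
theorem Ic2_ch6 : allF colF ((Ic2.drop (10 * 6)).take 10) = true := by decide +kernel
theorem Ic2_ch7 : allF colF ((Ic2.drop (10 * 7)).take 10) = true := by decide +kernel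
theorem Ic2_ch8 : allF colF ((Ic2.drop (10 * 8)).take 10) = true := by decide +kernel
theorem Ic2_ch9 : allF colF ((Ic2.drop (10 * 9)).take 10) = true := by decide +kernel
theorem Ic2_ch10 : allF colF ((Ic2.drop (10 * 10)).take 10) = true := by decide +kernel
theorem Ic2_ch11 : allF colF ((Ic2.drop (10 * 11)).take 10) = true := by decide +kernel

theorem Ic2_valid : validC 2048 5 111 Ic2 = true := by
  apply validC_of_chunks _ (by decide +kernel)
  intro k hk
  have : k = 0 ∨ k = 1 ∨ k = 2 ∨ k = 3 ∨ k = 4 ∨ k = 5 ∨ k = 6 ∨ k = 7 ∨ k = 8 ∨ k = 9 ∨ k = 10 ∨ k = 11 := by omega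
  rcases this with rfl | rfl | rfl | rfl | rfl | rfl | rfl | rfl | rfl | rfl | rfl | rfl
  exacts [Ic2_ch0, Ic2_ch1, Ic2_ch2, Ic2_ch3, Ic2_ch4, Ic2_ch5, Ic2_ch6, Ic2_ch7, Ic2_ch8, Ic2_ch9, Ic2_ch10, Ic2_ch11]

theorem Mc3_ch0 : allF colF ((Mc3.drop (10 * 0)).take 10) = true := by decide +kernel
theorem Mc3_ch1 : allF colF ((Mc3.drop (10 * 1)).take 10) = true := by decide +kernel
theorem Mc3_ch2 : allF colF ((Mc3.drop (10 * 2)).take 10) = true := by decide +kernel
theorem Mc3_ch3 : allF colF ((Mc3.drop (10 * 3)).take 10) = true := by decide +kernel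
theorem Mc3_ch4 : allF colF ((Mc3.drop (10 * 4)).take 10) = true := by decide +kernel
theorem Mc3_ch5 : allF colF ((Mc3.drop (10 * 5)).take 10) = true := by decide +kernel
theorem Mc3_ch6 : allF colF ((Mc3.drop (10 * 6)).take 10) = true := by decide +kernel
theorem Mc3_ch7 : allF colF ((Mc3.drop (10 * 7)).take 10) = true := by decide +kernel
theorem Mc3_ch8 : allF colF ((Mc3.drop (10 * 8)).take 10) = true := by decide +kernel
theorem Mc3_ch9 : allF colF ((Mc3.drop (10 * 9)).take 10) = true := by decide +kernel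
theorem Mc3_ch10 : allF colF ((Mc3.drop (10 * 10)).take 10) = true := by decide +kernel
theorem Mc3_ch11 : allF colF ((Mc3.drop (10 * 11)).take 10) = true := by decide +kernel

theorem Mc3_valid : validC 2048 5 111 Mc3 = true := by
  apply validC_of_chunks _ (by decide +kernel)
  intro k hk
  have : k = 0 ∨ k = 1 ∨ k = 2 ∨ k = 3 ∨ k = 4 ∨ k = 5 ∨ k = 6 ∨ k = 7 ∨ k = 8 ∨ k = 9 ∨ k = 10 ∨ k = 11 := by omega
  rcases this with rfl | rfl | rfl | rfl | rfl | rfl | rfl | rfl | rfl | rfl | rfl | rfl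
  exacts [Mc3_ch0, Mc3_ch1, Mc3_ch2, Mc3_ch3, Mc3_ch4, Mc3_ch5, Mc3_ch6, Mc3_ch7, Mc3_ch8, Mc3_ch9, Mc3_ch10, Mc3_ch11]

theorem Ic3_ch0 : allF colF ((Ic3.drop (10 * 0)).take 10) = true := by decide +kernel
theorem Ic3_ch1 : allF colF ((Ic3.drop (10 * 1)).take 10) = true := by decide +kernel
theorem Ic3_ch2 : allF colF ((Ic3.drop (10 * 2)).take 10) = true := by decide +kernel
theorem Ic3_ch3 : allF colF ((Ic3.drop (10 * 3)).take 10) = true := by decide +kernel
theorem Ic3_ch4 : allF colF ((Ic3.drop (10 * 4)).take 10) = true := by decide +kernel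
theorem Ic3_ch5 : allF colF ((Ic3.drop (10 * 5)).take 10) = true := by decide +kernel
theorem Ic3_ch6 : allF colF ((Ic3.drop (10 * 6)).take 10) = true := by decide +kernel
theorem Ic3_ch7 : allF colF ((Ic3.drop (10 * 7)).take 10) = true := by decide +kernel
theorem Ic3_ch8 : allF colF ((Ic3.drop (10 * 8)).take 10) = true := by decide +kernel
theorem Ic3_ch9 : allF colF ((Ic3.drop (10 * 9)).take 10) = true := by decide +kernel
theorem Ic3_ch10 : allF colF ((Ic3.drop (10 * 10)).take 10) = true := by decide +kernel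
theorem Ic3_ch11 : allF colF ((Ic3.drop (10 * 11)).take 10) = true := by decide +kernel

theorem Ic3_valid : validC 2048 5 111 Ic3 = true := by
  apply validC_of_chunks _ (by decide +kernel)
  intro k hk
  have : k = 0 ∨ k = 1 ∨ k = 2 ∨ k = 3 ∨ k = 4 ∨ k = 5 ∨ k = 6 ∨ k = 7 ∨ k = 8 ∨ k = 9 ∨ k = 10 ∨ k = 11 := by omega
  rcases this with rfl | rfl | rfl | rfl | rfl | rfl | rfl | rfl | rfl | rfl | rfl | rfl
  exacts [Ic3_ch0, Ic3_ch1, Ic3_ch2, Ic3_ch3, Ic3_ch4, Ic3_ch5, Ic3_ch6, Ic3_ch7, Ic3_ch8, Ic3_ch9, Ic3_ch10, Ic3_ch11]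

theorem Mc4_ch0 : allF colF ((Mc4.drop (10 * 0)).take 10) = true := by decide +kernel
theorem Mc4_ch1 : allF colF ((Mc4.drop (10 * 1)).take 10) = true := by decide +kernel
theorem Mc4_ch2 : allF colF ((Mc4.drop (10 * 2)).take 10) = true := by decide +kernel
theorem Mc4_ch3 : allF colF ((Mc4.drop (10 * 3)).take 10) = true := by decide +kernel
theorem Mc4_ch4 : allF colF ((Mc4.drop (10 * 4)).take 10) = true := by decide +kernel
theorem Mc4_ch5 : allF colF ((Mc4.drop (10 * 5)).take 10) = true := by decide +kernel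
theorem Mc4_ch6 : allF colF ((Mc4.drop (10 * 6)).take 10) = true := by decide +kernel
theorem Mc4_ch7 : allF colF ((Mc4.drop (10 * 7)).take 10) = true := by decide +kernel
theorem Mc4_ch8 : allF colF ((Mc4.drop (10 * 8)).take 10) = true := by decide +kernel
theorem Mc4_ch9 : allF colF ((Mc4.drop (10 * 9)).take 10) = true := by decide +kernel
theorem Mc4_ch10 : allF colF ((Mc4.drop (10 * 10)).take 10) = true := by decide +kernel
theorem Mc4_ch11 : allF colF ((Mc4.drop (10 * 11)).take 10) = true := by decide +kernel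

theorem Mc4_valid : validC 2048 5 111 Mc4 = true := by
  apply validC_of_chunks _ (by decide +kernel)
  intro k hk
  have : k = 0 ∨ k = 1 ∨ k = 2 ∨ k = 3 ∨ k = 4 ∨ k = 5 ∨ k = 6 ∨ k = 7 ∨ k = 8 ∨ k = 9 ∨ k = 10 ∨ k = 11 := by omega
  rcases this with rfl | rfl | rfl | rfl | rfl | rfl | rfl | rfl | rfl | rfl | rfl | rfl
  exacts [Mc4_ch0, Mc4_ch1, Mc4_ch2, Mc4_ch3, Mc4_ch4, Mc4_ch5, Mc4_ch6, Mc4_ch7, Mc4_ch8, Mc4_ch9, Mc4_ch10, Mc4_ch11]

theorem Ic4_ch0 : allF colF ((Ic4.drop (10 * 0)).take 10) = true := by decide +kernel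
theorem Ic4_ch1 : allF colF ((Ic4.drop (10 * 1)).take 10) = true := by decide +kernel
theorem Ic4_ch2 : allF colF ((Ic4.drop (10 * 2)).take 10) = true := by decide +kernel
theorem Ic4_ch3 : allF colF ((Ic4.drop (10 * 3)).take 10) = true := by decide +kernel
theorem Ic4_ch4 : allF colF ((Ic4.drop (10 * 4)).take 10) = true := by decide +kernel
theorem Ic4_ch5 : allF colF ((Ic4.drop (10 * 5)).take 10) = true := by decide +kernel
theorem Ic4_ch6 : allF colF ((Ic4.drop (10 * 6)).take 10) = true := by decide +kernel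
theorem Ic4_ch7 : allF colF ((Ic4.drop (10 * 7)).take 10) = true := by decide +kernel
theorem Ic4_ch8 : allF colF ((Ic4.drop (10 * 8)).take 10) = true := by decide +kernel
theorem Ic4_ch9 : allF colF ((Ic4.drop (10 * 9)).take 10) = true := by decide +kernel
theorem Ic4_ch10 : allF colF ((Ic4.drop (10 * 10)).take 10) = true := by decide +kernel
theorem Ic4_ch11 : allF colF ((Ic4.drop (10 * 11)).take 10) = true := by decide +kernel

theorem Ic4_valid : validC 2048 5 111 Ic4 = true := by
  apply validC_of_chunks _ (by decide +kernel)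
  intro k hk
  have : k = 0 ∨ k = 1 ∨ k = 2 ∨ k = 3 ∨ k = 4 ∨ k = 5 ∨ k = 6 ∨ k = 7 ∨ k = 8 ∨ k = 9 ∨ k = 10 ∨ k = 11 := by omega
  rcases this with rfl | rfl | rfl | rfl | rfl | rfl | rfl | rfl | rfl | rfl | rfl | rfl
  exacts [Ic4_ch0, Ic4_ch1, Ic4_ch2, Ic4_ch3, Ic4_ch4, Ic4_ch5, Ic4_ch6, Ic4_ch7, Ic4_ch8, Ic4_ch9, Ic4_ch10, Ic4_ch11]

theorem Mc5_ch0 : allF colF ((Mc5.drop (10 * 0)).take 10) = true := by decide +kernel
theorem Mc5_ch1 : allF colF ((Mc5.drop (10 * 1)).take 10) = true := by decide +kernel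
theorem Mc5_ch2 : allF colF ((Mc5.drop (10 * 2)).take 10) = true := by decide +kernel
theorem Mc5_ch3 : allF colF ((Mc5.drop (10 * 3)).take 10) = true := by decide +kernel
theorem Mc5_ch4 : allF colF ((Mc5.drop (10 * 4)).take 10) = true := by decide +kernel
theorem Mc5_ch5 : allF colF ((Mc5.drop (10 * 5)).take 10) = true := by decide +kernel
theorem Mc5_ch6 : allF colF ((Mc5.drop (10 * 6)).take 10) = true := by decide +kernel
theorem Mc5_ch7 : allF colF ((Mc5.drop (10 * 7)).take 10) = true := by decide +kernel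
theorem Mc5_ch8 : allF colF ((Mc5.drop (10 * 8)).take 10) = true := by decide +kernel
theorem Mc5_ch9 : allF colF ((Mc5.drop (10 * 9)).take 10) = true := by decide +kernel
theorem Mc5_ch10 : allF colF ((Mc5.drop (10 * 10)).take 10) = true := by decide +kernel
theorem Mc5_ch11 : allF colF ((Mc5.drop (10 * 11)).take 10) = true := by decide +kernel

theorem Mc5_valid : validC 2048 5 111 Mc5 = true := by
  apply validC_of_chunks _ (by decide +kernel)
  intro k hk
  have : k = 0 ∨ k = 1 ∨ k = 2 ∨ k = 3 ∨ k = 4 ∨ k = 5 ∨ k = 6 ∨ k = 7 ∨ k = 8 ∨ k = 9 ∨ k = 10 ∨ k = 11 := by omega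
  rcases this with rfl | rfl | rfl | rfl | rfl | rfl | rfl | rfl | rfl | rfl | rfl | rfl
  exacts [Mc5_ch0, Mc5_ch1, Mc5_ch2, Mc5_ch3, Mc5_ch4, Mc5_ch5, Mc5_ch6, Mc5_ch7, Mc5_ch8, Mc5_ch9, Mc5_ch10, Mc5_ch11]

theorem Ic5_ch0 : allF colF ((Ic5.drop (10 * 0)).take 10) = true := by decide +kernel
theorem Ic5_ch1 : allF colF ((Ic5.drop (10 * 1)).take 10) = true := by decide +kernel
theorem Ic5_ch2 : allF colF ((Ic5.drop (10 * 2)).take 10) = true := by decide +kernel
theorem Ic5_ch3 : allF colF ((Ic5.drop (10 * 3)).take 10) = true := by decide +kernel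
theorem Ic5_ch4 : allF colF ((Ic5.drop (10 * 4)).take 10) = true := by decide +kernel
theorem Ic5_ch5 : allF colF ((Ic5.drop (10 * 5)).take 10) = true := by decide +kernel
theorem Ic5_ch6 : allF colF ((Ic5.drop (10 * 6)).take 10) = true := by decide +kernel
theorem Ic5_ch7 : allF colF ((Ic5.drop (10 * 7)).take 10) = true := by decide +kernel
theorem Ic5_ch8 : allF colF ((Ic5.drop (10 * 8)).take 10) = true := by decide +kernel
theorem Ic5_ch9 : allF colF ((Ic5.drop (10 * 9)).take 10) = true := by decide +kernel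
theorem Ic5_ch10 : allF colF ((Ic5.drop (10 * 10)).take 10) = true := by decide +kernel
theorem Ic5_ch11 : allF colF ((Ic5.drop (10 * 11)).take 10) = true := by decide +kernel

theorem Ic5_valid : validC 2048 5 111 Ic5 = true := by
  apply validC_of_chunks _ (by decide +kernel)
  intro k hk
  have : k = 0 ∨ k = 1 ∨ k = 2 ∨ k = 3 ∨ k = 4 ∨ k = 5 ∨ k = 6 ∨ k = 7 ∨ k = 8 ∨ k = 9 ∨ k = 10 ∨ k = 11 := by omega
  rcases this with rfl | rfl | rfl | rfl | rfl | rfl | rfl | rfl | rfl | rfl | rfl | rfl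
  exacts [Ic5_ch0, Ic5_ch1, Ic5_ch2, Ic5_ch3, Ic5_ch4, Ic5_ch5, Ic5_ch6, Ic5_ch7, Ic5_ch8, Ic5_ch9, Ic5_ch10, Ic5_ch11]

theorem ID_ch0 : allF colF ((ID.drop (10 * 0)).take 10) = true := by decide +kernel
theorem ID_ch1 : allF colF ((ID.drop (10 * 1)).take 10) = true := by decide +kernel
theorem ID_ch2 : allF colF ((ID.drop (10 * 2)).take 10) = true := by decide +kernel
theorem ID_ch3 : allF colF ((ID.drop (10 * 3)).take 10) = true := by decide +kernel
theorem ID_ch4 : allF colF ((ID.drop (10 * 4)).take 10) = true := by decide +kernel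
theorem ID_ch5 : allF colF ((ID.drop (10 * 5)).take 10) = true := by decide +kernel
theorem ID_ch6 : allF colF ((ID.drop (10 * 6)).take 10) = true := by decide +kernel
theorem ID_ch7 : allF colF ((ID.drop (10 * 7)).take 10) = true := by decide +kernel
theorem ID_ch8 : allF colF ((ID.drop (10 * 8)).take 10) = true := by decide +kernel
theorem ID_ch9 : allF colF ((ID.drop (10 * 9)).take 10) = true := by decide +kernel
theorem ID_ch10 : allF colF ((ID.drop (10 * 10)).take 10) = true := by decide +kernel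
theorem ID_ch11 : allF colF ((ID.drop (10 * 11)).take 10) = true := by decide +kernel

theorem ID_valid : validC 2048 5 111 ID = true := by
  apply validC_of_chunks _ (by decide +kernel)
  intro k hk
  have : k = 0 ∨ k = 1 ∨ k = 2 ∨ k = 3 ∨ k = 4 ∨ k = 5 ∨ k = 6 ∨ k = 7 ∨ k = 8 ∨ k = 9 ∨ k = 10 ∨ k = 11 := by omega
  rcases this with rfl | rfl | rfl | rfl | rfl | rfl | rfl | rfl | rfl | rfl | rfl | rfl
  exacts [ID_ch0, ID_ch1, ID_ch2, ID_ch3, ID_ch4, ID_ch5, ID_ch6, ID_ch7, ID_ch8, ID_ch9, ID_ch10, ID_ch11]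

end Cfsg.Agent.Lib.LyV111
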