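import Mathlib
import Cfsg.Agent.Lib.LyV111.P0
import Cfsg.Agent.Lib.LyV111.P1
import Cfsg.Agent.Lib.LyV111.P2
import Cfsg.Agent.Lib.LyV111.P3
import Cfsg.Agent.Lib.LyV111.P4
import Cfsg.Agent.Lib.LyV111.P5
import Cfsg.Agent.Lib.LyV111.P6
import Cfsg.Agent.Lib.LyV111.P7
import Cfsg.Agent.TcData.Ly.Common
import Cfsg.Agent.Lib.LyV111.Valid

/-!
# A representation of degree 111 of the presented Lyons group over the field with five elements
-/

set_option autoImplicit false
set_option maxRecDepth 100000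
set_option linter.all false
set_option Elab.async false

namespace Cfsg.Agent.Lib.LyV111

open Cfsg.Spor Cfsg.Spor.Ly Cfsg.Agent.Lib.FpVec

instance fact15' : Fact (1 < 5) := ⟨by norm_num⟩

theorem par : Par 2048 5 111 := ⟨by norm_num, by norm_num, by norm_num, by norm_num⟩

set_option maxHeartbeats 0

theorem valid_M : ∀ x : Gen, validC 2048 5 111 (M x) = true
  | .a => Ma_valid
  | .b => Mb_valid
  | .c => Mc_valid
  | .d => Md_valid
  | .z => Mz_valid
  | .e => Me_valid
  | .a1 => ID_valid
  | .a2 => ID_valid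
  | .a3 => ID_valid
  | .a4 => ID_valid
  | .c1 => ID_valid
  | .c2 => Mc2_valid
  | .c3 => Mc3_valid
  | .c4 => Mc4_valid
  | .c5 => Mc5_valid
  | .u => ID_valid
  | .x23 => ID_valid
  | .x24 => ID_valid
  | .x25 => ID_valid
  | .x29 => ID_valid
  | .x47 => ID_valid
  | .x96 => ID_valid
  | .x129 => ID_valid
  | .x162 => ID_valid
  | .x163 => ID_valid
  | .x164 => ID_valid
  | .x165 => ID_valid
  | .x166 => ID_valid
  | .x167 => ID_valid
  | .x168 => ID_valid
  | .x169 => ID_valid
  | .x364 => ID_valid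
  | .x365 => ID_valid
  | .x366 => ID_valid
  | .x367 => ID_valid
  | .x368 => ID_valid
  | .x369 => ID_valid
  | .x370 => ID_valid
  | .x371 => ID_valid

theorem valid_I : ∀ x : Gen, validC 2048 5 111 (I x) = true
  | .a => Ia_valid
  | .b => Ib_valid
  | .c => Ic_valid
  | .d => Id_valid
  | .z => Iz_valid
  | .e => Ie_valid
  | .a1 => ID_valid
  | .a2 => ID_valid
  | .a3 => ID_valid
  | .a4 => ID_valid
  | .c1 => ID_valid
  | .c2 => Ic2_valid
  | .c3 => Ic3_valid
  | .c4 => Ic4_valid
  | .c5 => Ic5_valid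
  | .u => ID_valid
  | .x23 => ID_valid
  | .x24 => ID_valid
  | .x25 => ID_valid
  | .x29 => ID_valid
  | .x47 => ID_valid
  | .x96 => ID_valid
  | .x129 => ID_valid
  | .x162 => ID_valid
  | .x163 => ID_valid
  | .x164 => ID_valid
  | .x165 => ID_valid
  | .x166 => ID_valid
  | .x167 => ID_valid
  | .x168 => ID_valid
  | .x169 => ID_valid
  | .x364 => ID_valid
  | .x365 => ID_valid
  | .x366 => ID_valid
  | .x367 => ID_valid
  | .x368 => ID_valid
  | .x369 => ID_valid
  | .x370 => ID_valid
  | .x371 => ID_valid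

theorem check_inv : ∀ x ∈ [Gen.a, .b, .c, .d, .z, .e], ∀ i, i < 111 →
    mv 2048 5 111 (M x) (mv 2048 5 111 (I x) (2048 ^ i)) = 2048 ^ i := by
  decide +kernel

theorem check_inv2 : ∀ x ∈ [Gen.c2, .c3, .c4, .c5, .c1], ∀ i, i < 111 →
    mv 2048 5 111 (M x) (mv 2048 5 111 (I x) (2048 ^ i)) = 2048 ^ i := by
  decide +kernel

theorem mat_inv (x : Gen) : mat 2048 5 111 (M x) * mat 2048 5 111 (I x) = 1 := by
  apply mat_mul_inv par (valid_M x) (valid_I x)
  cases x <;> first
    | exact check_inv _ (by decide)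
    | exact check_inv2 _ (by decide)
    | exact check_inv2 .c1 (by decide)

/-- The images of the letters. -/
noncomputable def gl (x : Gen) : Matrix.GeneralLinearGroup (Fin 111) (ZMod 5) := glOf M I mat_inv x

/-- The images of the generators. -/
noncomputable def f (x : Gen) : Matrix.GeneralLinearGroup (Fin 111) (ZMod 5) := FreeGroup.lift gl (sig x)

theorem lift_f (r : FreeGroup Gen) : FreeGroup.lift f r = FreeGroup.lift gl (FreeGroup.lift sig r) := by
  have h : FreeGroup.lift f = (FreeGroup.lift gl).comp (FreeGroup.lift sig) := by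
    apply FreeGroup.ext_hom
    intro x
    simp [f]
  rw [h]
  rfl

def subW (L : List (Gen × Bool)) : List (Gen × Bool) :=
  L.flatMap fun a => if a.2 then ex a.1 else FreeGroup.invRev (ex a.1)

theorem lift_sig_mk (L : List (Gen × Bool)) : FreeGroup.lift sig (FreeGroup.mk L) = FreeGroup.mk (subW L) := by
  induction L with
  | nil => rfl
  | cons a L ih =>
    have h1 : FreeGroup.mk (a :: L) = FreeGroup.mk [a] * FreeGroup.mk L := by
      rw [FreeGroup.mul_mk]; rfl
    have h2 : subW (a :: L) = (if a.2 then ex a.1 else FreeGroup.invRev (ex a.1)) ++ subW L := by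
      simp [subW]
    rw [h1, map_mul, ih, h2, ← FreeGroup.mul_mk]
    congr 1
    obtain ⟨x, b⟩ := a
    cases b
    · rw [FreeGroup.lift_mk]
      simp [sig]
    · rw [FreeGroup.lift_mk]
      simp [sig]

theorem toWord_lift_sig (r : FreeGroup Gen) :
    (FreeGroup.lift sig r).toWord = FreeGroup.reduce (subW r.toWord) := by
  conv_lhs => rw [← FreeGroup.mk_toWord (x := r), lift_sig_mk, FreeGroup.toWord_mk]

theorem words_eq' : extra.map (fun r => FreeGroup.reduce (subW r.toWord)) = WL := by decide +kernel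

theorem words_eq : extra.map (fun r => (FreeGroup.lift sig r).toWord) = WL := by
  rw [← words_eq']
  apply List.map_congr_left
  intro r _
  exact toWord_lift_sig r

/-- The words of the relators. -/
def WS : List (List (Gen × Bool)) := [[], W0, W1, W2, W3, W4, W5, W6, W7, W8, W9, W10, W11, W12, W13, W14, W15, W16, W17, W18, W19, W20, W21, W22, W23, W24, W25, W26, W27, W28, W29, W30, W31, W32, W33, W34, W35, W36, W37, W38, W39, W40, W41, W42, W43, W44, W45, W46, W47, W48, W49, W50, W51, W52, W53, W54, W55, W56]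

theorem WL_parts : ∀ w ∈ WL, w ∈ WS := by decide +kernel

theorem word_ok {w : List (Gen × Bool)} (hw : w ∈ WL) : ∀ i, i < 111 → wordV 2048 5 111 (csOf M I) w (2048 ^ i) = 2048 ^ i := by
  have hw2 := WL_parts w hw
  simp only [WS, List.mem_cons, List.not_mem_nil, or_false] at hw2
  rcases hw2 with rfl | rfl | rfl | rfl | rfl | rfl | rfl | rfl | rfl | rfl | rfl | rfl | rfl | rfl | rfl | rfl | rfl | rfl | rfl | rfl | rfl | rfl | rfl | rfl | rfl | rfl | rfl | rfl | rfl | rfl | rfl | rfl | rfl | rfl | rfl | rfl | rfl | rfl | rfl | rfl | rfl | rfl | rfl | rfl | rfl | rfl | rfl | rfl | rfl | rfl | rfl | rfl | rfl | rfl | rfl | rfl | rfl | rfl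
  · intro i _
    rfl
  · exact ok0
  · exact ok1
  · exact ok2
  · exact ok3
  · exact ok4
  · exact ok5
  · exact ok6
  · exact ok7
  · exact ok8
  · exact ok9
  · exact ok10
  · exact ok11
  · exact ok12
  · exact ok13
  · exact ok14
  · exact ok15
  · exact ok16
  · exact ok17
  · exact ok18
  · exact ok19
  · exact ok20
  · exact ok21
  · exact ok22
  · exact ok23
  · exact ok24
  · exact ok25
  · exact ok26
  · exact ok27
  · exact ok28
  · exact ok29
  · exact ok30
  · exact ok31
  · exact ok32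
  · exact ok33
  · exact ok34
  · exact ok35
  · exact ok36
  · exact ok37
  · exact ok38
  · exact ok39
  · exact ok40
  · exact ok41
  · exact ok42
  · exact ok43
  · exact ok44
  · exact ok45
  · exact ok46
  · exact ok47
  · exact ok48
  · exact ok49
  · exact ok50
  · exact ok51
  · exact ok52
  · exact ok53
  · exact ok54
  · exact ok55
  · exact ok56

theorem hrho : ∀ r ∈ Cfsg.Agent.TcData.Ly.RR, FreeGroup.lift f r = 1 := by
  rintro r (⟨x, hx, y, hy, rfl⟩ | hr)
  · simp [edges, coxNodes] at hx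
  · rw [lift_f]
    have h1 : (FreeGroup.lift sig r).toWord ∈ WL := by
      rw [← words_eq]
      exact List.mem_map.2 ⟨r, hr, rfl⟩
    exact lift_eq_one par valid_M valid_I mat_inv _ (word_ok h1)

/-- The representation. -/
noncomputable def rho : PresentedGroup Cfsg.Agent.TcData.Ly.RR →* Matrix.GeneralLinearGroup (Fin 111) (ZMod 5) :=
  PresentedGroup.toGroup hrho

theorem a_ne_one : (PresentedGroup.of Gen.a : PresentedGroup Cfsg.Agent.TcData.Ly.RR) ≠ 1 := by
  intro h
  have h1 : rho (PresentedGroup.of Gen.a) = 1 := by rw [h, map_one]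
  have h2 : rho (PresentedGroup.of Gen.a) = f Gen.a := PresentedGroup.toGroup.of hrho
  rw [h2] at h1
  have h3 : f Gen.a = gl Gen.a := by
    unfold f sig
    rw [FreeGroup.lift_mk]
    simp [ex]
  rw [h3] at h1
  have h4 : mat 2048 5 111 (M Gen.a) = 1 := congrArg Units.val h1
  have h5 := congrFun (congrFun h4 ⟨0, by norm_num⟩) ⟨1, by norm_num⟩
  rw [Matrix.one_apply_ne (by decide)] at h5
  revert h5
  decide +kernel

end Cfsg.Agent.Lib.LyV111
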